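import Mathlib

/-!
# Presentations of reflexive modules free at a prime
-/

set_option autoImplicit false
universe u

open Function

namespace GrothLib.FreeOff

variable {B : Type u} [CommRing B]

/-- If `s • 1` factors through a free module, with `s ∉ q`, the localisation at `q` is free. -/
theorem free_localized_of_factor {C : Type u} [AddCommGroup C] [Module B C] [Module.Finite B C]
    (q : Ideal B) [q.IsPrime] {n : ℕ} (s : q.primeCompl) (σ : C →ₗ[B] (Fin n → B)) (π : (Fin n → B) →ₗ[B] C)
    (h : ∀ c, π (σ c) = (s : B) • c) :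
    Module.Free (Localization.AtPrime q) (LocalizedModule q.primeCompl C) := by
  let ℓC := LocalizedModule.mkLinearMap q.primeCompl C
  let ℓP := LocalizedModule.mkLinearMap q.primeCompl (Fin n → B)
  let σ' := IsLocalizedModule.mapExtendScalars q.primeCompl ℓC ℓP (Localization.AtPrime q) σ
  let π' := IsLocalizedModule.mapExtendScalars q.primeCompl ℓP ℓC (Localization.AtPrime q) π
  have hu : IsUnit (algebraMap B (Localization.AtPrime q) s) := IsLocalization.map_units _ s
  have hπσ : ∀ c, π' (σ' c) = algebraMap B (Localization.AtPrime q) s • c := by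
    intro c
    induction c using LocalizedModule.induction_on with
    | h c t =>
      have hmk : LocalizedModule.mk c t = Localization.mk (1 : B) t • ℓC c := by
        show _ = Localization.mk (1 : B) t • LocalizedModule.mk c 1
        rw [LocalizedModule.mk_smul_mk, one_smul, mul_one]
      rw [hmk, map_smul, map_smul, smul_comm (algebraMap B (Localization.AtPrime q) (s : B)),
        algebraMap_smul, ← map_smul ℓC, ← h]
      congr 1
      show IsLocalizedModule.map q.primeCompl ℓP ℓC π (IsLocalizedModule.map q.primeCompl ℓC ℓP σ (ℓC c)) = _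
      rw [IsLocalizedModule.map_apply, IsLocalizedModule.map_apply]
  haveI : Module.Free (Localization.AtPrime q) (LocalizedModule q.primeCompl (Fin n → B)) :=
    Module.free_of_isLocalizedModule q.primeCompl ℓP
  haveI : Module.Finite (Localization.AtPrime q) (LocalizedModule q.primeCompl C) :=
    Module.Finite.of_isLocalizedModule q.primeCompl ℓC
  haveI : Module.Projective (Localization.AtPrime q) (LocalizedModule q.primeCompl C) := by
    refine Module.Projective.of_split (hu.unit⁻¹.val • σ') π' (LinearMap.ext fun c => ?_)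
    rw [LinearMap.comp_apply, LinearMap.smul_apply, map_smul, hπσ, smul_smul]
    simp
  haveI : Module.Flat (Localization.AtPrime q) (LocalizedModule q.primeCompl C) := Module.Flat.of_projective
  exact Module.free_of_flat_of_isLocalRing

/-- A module free at `q` has `s • 1` factor through a finite free module, `s ∉ q`. -/
theorem exists_factor_of_free [IsNoetherianRing B] (F : Type u) [AddCommGroup F] [Module B F] [Module.Finite B F]
    (q : Ideal B) [q.IsPrime] [Module.Free (Localization.AtPrime q) (LocalizedModule q.primeCompl F)] :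
    ∃ (k : ℕ) (α : F →ₗ[B] (Fin k → B)) (β : (Fin k → B) →ₗ[B] F) (s : q.primeCompl),
      ∀ x, β (α x) = (s : B) • x := by
  haveI : Module.FinitePresentation B F := Module.finitePresentation_of_finite B F
  obtain ⟨k, β, hβ⟩ := Module.Finite.exists_fin' B F
  let ℓF := LocalizedModule.mkLinearMap q.primeCompl F
  let ℓP := LocalizedModule.mkLinearMap q.primeCompl (Fin k → B)
  let β' := IsLocalizedModule.mapExtendScalars q.primeCompl ℓP ℓF (Localization.AtPrime q) β
  have hβ' : Surjective β' := IsLocalizedModule.map_surjective q.primeCompl ℓP ℓF β hβ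
  obtain ⟨σ', hσ'⟩ := Module.projective_lifting_property β' LinearMap.id hβ'
  obtain ⟨α, s, hα⟩ := Module.FinitePresentation.exists_lift_of_isLocalizedModule q.primeCompl ℓP
    ((σ'.restrictScalars B).comp ℓF)
  have hcomp : ∀ x, ℓF (β (α x)) = ℓF ((s : B) • x) := fun x => by
    have h1 := LinearMap.congr_fun hα x
    have h2 : β' (σ' (ℓF x)) = ℓF x := LinearMap.congr_fun hσ' _
    rw [← IsLocalizedModule.map_apply q.primeCompl ℓP ℓF β, map_smul]
    show β' (ℓP (α x)) = _
    rw [show ℓP (α x) = (s : B) • σ' (ℓF x) from h1, LinearMap.map_smul_of_tower, h2]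
  obtain ⟨G, hG⟩ := Module.Finite.fg_top (R := B) (M := F)
  have hex : ∀ x : F, ∃ c : q.primeCompl, (c : B) • β (α x) = (c : B) • ((s : B) • x) :=
    fun x => IsLocalizedModule.exists_of_eq (f := ℓF) (hcomp x)
  choose c hc using hex
  refine ⟨k, (∏ g ∈ G, (c g : B)) • α, β, (∏ g ∈ G, c g) * s, fun x => ?_⟩
  have hx : x ∈ Submodule.span B (G : Set F) := by rw [hG]; trivial
  rw [LinearMap.smul_apply, map_smul, Submonoid.coe_mul, Submonoid.coe_finsetProd, mul_smul]
  induction hx using Submodule.span_induction with
  | mem g hg =>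
    obtain ⟨d, hd⟩ := Finset.dvd_prod_of_mem (fun g => (c g : B)) (Finset.mem_coe.1 hg)
    rw [hd, mul_comm, mul_smul, mul_smul, hc]
  | zero => simp
  | add a b _ _ ha hb => simp only [smul_add, map_add, ha, hb]
  | smul r a _ ha => rw [map_smul, map_smul, smul_comm _ r, ha, smul_comm (s : B) r, smul_comm _ r]

/-- A finite reflexive module has a presentation as a kernel whose cokernel is free wherever the
module is. -/
theorem exists_presentation [IsNoetherianRing B] (F : Type u) [AddCommGroup F] [Module B F]
    [Module.Finite B F] [Module.IsReflexive B F] :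
    ∃ (n m : ℕ) (g : F →ₗ[B] (Fin n → B)) (h : (Fin n → B) →ₗ[B] (Fin m → B)),
      Injective g ∧ Function.Exact g h ∧ ∀ (q : Ideal B) [q.IsPrime],
        Module.Free (Localization.AtPrime q) (LocalizedModule q.primeCompl F) →
        Module.Free (Localization.AtPrime q)
          (LocalizedModule q.primeCompl ((Fin m → B) ⧸ LinearMap.range h)) := by
  classical
  haveI : Module.Finite B (Module.Dual B F) := by
    obtain ⟨n, f, hf⟩ := Module.Finite.exists_fin' B F
    exact Module.Finite.of_injective f.dualMap (LinearMap.dualMap_injective_of_surjective hf)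
  obtain ⟨n, π, hπ⟩ := Module.Finite.exists_fin' B (Module.Dual B F)
  haveI : Module.Finite B (LinearMap.ker π) := Module.Finite.iff_fg.2 (IsNoetherian.noetherian _)
  obtain ⟨m, κ, hκ⟩ := Module.Finite.exists_fin' B (LinearMap.ker π)
  let g₀ : (Fin m → B) →ₗ[B] (Fin n → B) := (LinearMap.ker π).subtype.comp κ
  let en : (Fin n → B) ≃ₗ[B] Module.Dual B (Fin n → B) := (Pi.basisFun B (Fin n)).toDualEquiv
  let em : (Fin m → B) ≃ₗ[B] Module.Dual B (Fin m → B) := (Pi.basisFun B (Fin m)).toDualEquiv
  let g : F →ₗ[B] (Fin n → B) := en.symm.toLinearMap.comp (π.dualMap.comp (Module.Dual.eval B F))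
  let h : (Fin n → B) →ₗ[B] (Fin m → B) := em.symm.toLinearMap.comp (g₀.dualMap.comp en.toLinearMap)
  have hg : Injective g := en.symm.injective.comp
    ((LinearMap.dualMap_injective_of_surjective hπ).comp (Module.bijective_dual_eval B F).1)
  have hgh : Function.Exact g h := fun a => by
    constructor
    · intro ha
      have ha' : g₀.dualMap (en a) = 0 := em.symm.injective (ha.trans (map_zero em.symm).symm)
      have hle : LinearMap.ker π ≤ LinearMap.ker (en a) := fun w hw => by
        obtain ⟨z, hz⟩ := hκ ⟨w, hw⟩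
        have := LinearMap.congr_fun ha' z
        rw [LinearMap.mem_ker]
        simpa [g₀, hz] using this
      let ξ : Module.Dual B (Module.Dual B F) :=
        (Submodule.liftQ (LinearMap.ker π) (en a) hle).comp (π.quotKerEquivOfSurjective hπ).symm.toLinearMap
      obtain ⟨x, hx⟩ := (Module.bijective_dual_eval B F).2 ξ
      refine ⟨x, en.injective ?_⟩
      show en (en.symm (π.dualMap (Module.Dual.eval B F x))) = en a
      rw [LinearEquiv.apply_symm_apply, hx]
      refine LinearMap.ext fun w => ?_
      show Submodule.liftQ _ (en a) hle ((π.quotKerEquivOfSurjective hπ).symm (π w)) = _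
      rw [show (π.quotKerEquivOfSurjective hπ).symm (π w) = Submodule.Quotient.mk w from
        (LinearEquiv.symm_apply_eq _).2 (π.quotKerEquivOfSurjective_apply_mk hπ w).symm]
      rfl
    · rintro ⟨x, rfl⟩
      show em.symm (g₀.dualMap (en (en.symm (π.dualMap (Module.Dual.eval B F x))))) = 0
      rw [LinearEquiv.apply_symm_apply, LinearEquiv.map_eq_zero_iff]
      refine LinearMap.ext fun z => ?_
      show Module.Dual.eval B F x (π (g₀ z)) = 0
      rw [show π (g₀ z) = 0 from (κ z).2, map_zero]
  refine ⟨n, m, g, h, hg, hgh, fun q _ hq => ?_⟩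
  haveI := hq
  obtain ⟨k, α, β, s, hαβ⟩ := exists_factor_of_free F q
  let ek : (Fin k → B) ≃ₗ[B] Module.Dual B (Fin k → B) := (Pi.basisFun B (Fin k)).toDualEquiv
  obtain ⟨α', hα'⟩ := Module.projective_lifting_property π (α.dualMap.comp ek.toLinearMap) hπ
  let σ : Module.Dual B F →ₗ[B] (Fin n → B) := α'.comp (ek.symm.toLinearMap.comp β.dualMap)
  have hσ : ∀ d, π (σ d) = (s : B) • d := fun d => by
    show π (α' (ek.symm (β.dualMap d))) = _
    rw [show π (α' (ek.symm (β.dualMap d))) = α.dualMap (ek (ek.symm (β.dualMap d))) from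
      LinearMap.congr_fun hα' _, LinearEquiv.apply_symm_apply]
    refine LinearMap.ext fun x => ?_
    show d (β (α x)) = (s : B) • d x
    rw [hαβ, map_smul]
  let e₀ : (Fin n → B) →ₗ[B] LinearMap.ker π :=
    ((s : B) • LinearMap.id - σ.comp π).codRestrict _ fun z => by
      rw [LinearMap.mem_ker, LinearMap.sub_apply, map_sub, LinearMap.comp_apply, hσ, LinearMap.smul_apply,
        map_smul, LinearMap.id_apply, sub_self]
  obtain ⟨t, ht⟩ := Module.projective_lifting_property κ e₀ hκ
  have hgt : ∀ z, g₀ (t (g₀ z)) = (s : B) • g₀ z := fun z => by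
    show (κ (t (g₀ z)) : Fin n → B) = _
    rw [show κ (t (g₀ z)) = e₀ (g₀ z) from LinearMap.congr_fun ht _]
    show (s : B) • g₀ z - σ (π (g₀ z)) = _
    rw [show π (g₀ z) = 0 from (κ z).2, map_zero, sub_zero]
  let t' : (Fin m → B) →ₗ[B] (Fin n → B) := en.symm.toLinearMap.comp (t.dualMap.comp em.toLinearMap)
  let e : (Fin m → B) →ₗ[B] (Fin m → B) := (s : B) • LinearMap.id - h.comp t'
  have he : LinearMap.range h ≤ LinearMap.ker e := by
    rintro _ ⟨a, rfl⟩
    rw [LinearMap.mem_ker, LinearMap.sub_apply, LinearMap.smul_apply, LinearMap.id_apply, sub_eq_zero,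
      ← map_smul]
    show em.symm (g₀.dualMap (en ((s : B) • a))) =
      em.symm (g₀.dualMap (en (en.symm (t.dualMap (em (em.symm (g₀.dualMap (en a))))))))
    rw [LinearEquiv.apply_symm_apply, LinearEquiv.apply_symm_apply]
    refine congrArg em.symm (LinearMap.ext fun z => ?_)
    show en ((s : B) • a) (g₀ z) = en a (g₀ (t (g₀ z)))
    rw [hgt, map_smul, map_smul, LinearMap.smul_apply]
  refine free_localized_of_factor q s (Submodule.liftQ _ e he) (LinearMap.range h).mkQ fun c => ?_
  obtain ⟨c, rfl⟩ := Submodule.Quotient.mk_surjective _ c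
  show Submodule.Quotient.mk ((s : B) • c - h (t' c)) = _
  rw [Submodule.Quotient.mk_sub, Submodule.Quotient.mk_smul,
    (Submodule.Quotient.mk_eq_zero _).2 (LinearMap.mem_range_self h (t' c)), sub_zero]

end GrothLib.FreeOff
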